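import Mathlib.RingTheory.LocalRing.Module
import Mathlib.RingTheory.Flat.FaithfullyFlat.Basic
import Mathlib.RingTheory.Flat.FaithfullyFlat.Algebra
import Mathlib.RingTheory.Flat.EquationalCriterion

set_option autoImplicit false

universe u v

noncomputable section

namespace K789.Retract

open TensorProduct

variable {A : Type u} {B : Type v} [CommRing A] [CommRing B] [Algebra A B]

/-- The cokernel of a faithfully flat ring map is flat. -/
theorem flat_quotient [Module.FaithfullyFlat A B] :
    Module.Flat A (B ⧸ LinearMap.range (Algebra.linearMap A B)) := by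
  rw [Module.Flat.iff_lTensor_injective']
  intro I
  have hex : Function.Exact (Algebra.linearMap A B) (LinearMap.range (Algebra.linearMap A B)).mkQ :=
    LinearMap.exact_map_mkQ_range _
  have h1 : Function.Injective ((Algebra.linearMap A B).rTensor (A ⧸ I)) := by
    have h2 := Module.FaithfullyFlat.tensorProduct_mk_injective (A := A) (B := B) (A ⧸ I)
    have h3 : ∀ x : A ⊗[A] (A ⧸ I), (Algebra.linearMap A B).rTensor (A ⧸ I) x =
        TensorProduct.mk A B (A ⧸ I) 1 (TensorProduct.lid A (A ⧸ I) x) := by
      intro x
      induction x using TensorProduct.induction_on with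
      | zero => simp
      | tmul a m =>
        rw [LinearMap.rTensor_tmul, TensorProduct.lid_tmul, TensorProduct.mk_apply,
          Algebra.linearMap_apply, Algebra.algebraMap_eq_smul_one, TensorProduct.smul_tmul]
      | add x y hx hy => rw [map_add, map_add, map_add, hx, hy]
    intro x y hxy
    rw [h3, h3] at hxy
    exact (TensorProduct.lid A (A ⧸ I)).injective (h2 hxy)
  exact lTensor_injective_of_exact_of_exact_of_rTensor_injective
    hex (Submodule.mkQ_surjective _) (LinearMap.exact_subtype_mkQ I) (Submodule.mkQ_surjective _)
    h1 (Module.Flat.lTensor_preserves_injective_linearMap _ Subtype.val_injective)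

theorem exists_retraction [IsNoetherianRing A] [Module.Finite A B] [Module.FaithfullyFlat A B] :
    ∃ r : B →ₗ[A] A, ∀ a, r (algebraMap A B a) = a := by
  have hflat := flat_quotient (A := A) (B := B)
  have hfp : Module.FinitePresentation A (B ⧸ LinearMap.range (Algebra.linearMap A B)) :=
    Module.finitePresentation_of_finite A _
  have hproj : Module.Projective A (B ⧸ LinearMap.range (Algebra.linearMap A B)) :=
    Module.Flat.projective_of_finitePresentation
  obtain ⟨s, hs⟩ := Module.projective_lifting_property
    (LinearMap.range (Algebra.linearMap A B)).mkQ LinearMap.id (Submodule.mkQ_surjective _)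
  have hinj : Function.Injective (algebraMap A B) := FaithfulSMul.algebraMap_injective A B
  have hs' : ∀ z, (LinearMap.range (Algebra.linearMap A B)).mkQ (s z) = z := fun z => LinearMap.congr_fun hs z
  let q : B →ₗ[A] B := LinearMap.id - s ∘ₗ (LinearMap.range (Algebra.linearMap A B)).mkQ
  have hmem : ∀ b : B, q b ∈ LinearMap.range (Algebra.linearMap A B) := by
    intro b
    rw [← Submodule.Quotient.mk_eq_zero, ← Submodule.mkQ_apply]
    simp only [q, LinearMap.sub_apply, LinearMap.id_apply, LinearMap.comp_apply, map_sub, hs',
      sub_self]
  let e := LinearEquiv.ofInjective (Algebra.linearMap A B) hinj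
  refine ⟨e.symm.toLinearMap ∘ₗ q.codRestrict _ hmem, ?_⟩
  intro a
  rw [LinearMap.comp_apply, LinearEquiv.coe_coe, LinearEquiv.symm_apply_eq]
  apply Subtype.ext
  have : (LinearMap.range (Algebra.linearMap A B)).mkQ (algebraMap A B a) = 0 := by
    rw [Submodule.mkQ_apply, Submodule.Quotient.mk_eq_zero]
    exact ⟨a, rfl⟩
  simp only [q, LinearMap.codRestrict_apply, LinearMap.sub_apply, LinearMap.id_apply,
    LinearMap.comp_apply, this, map_zero, sub_zero]
  rfl

end K789.Retract
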