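import Groth.Prelude.Def_CartDual2
import Groth.Agent.CartDual.K789.Retract
import Mathlib.RingTheory.HopfAlgebra.Convolution
import Mathlib.RingTheory.RingHom.FaithfullyFlat

/-!
# Exactness of Cartier duality
-/

set_option autoImplicit false

universe u v w

noncomputable section

namespace K789.CartExact

open TensorProduct Coalgebra WithConv

section antipode

variable {R : Type u} [CommRing R] {A : Type v} {B : Type w} [CommRing A] [CommRing B]
  [HopfAlgebra R A] [HopfAlgebra R B] (f : A →ₐc[R] B)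

/-- bialgebra maps between Hopf algebras commute with the antipode. -/
theorem map_antipode (a : A) : f (HopfAlgebra.antipode R a) = HopfAlgebra.antipode R (f a) := by
  have h : toConv ((f : A →ₐ[R] B).toLinearMap ∘ₗ HopfAlgebra.antipode R (A := A)) =
      toConv (HopfAlgebra.antipode R (A := B) ∘ₗ (f : A →ₐ[R] B).toLinearMap) := by
    symm
    apply left_inv_eq_right_inv (a := toConv (f : A →ₐ[R] B).toLinearMap)
    · have h1 := LinearMap.convMul_comp_coalgHom_distrib (R := R)
        (toConv (HopfAlgebra.antipode R (A := B))) (toConv LinearMap.id) (f : A →ₗc[R] B)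
      rw [LinearMap.antipode_mul_id] at h1
      apply WithConv.ofConv_injective
      refine Eq.trans h1.symm ?_
      ext a
      simp
    · have h1 := LinearMap.algHom_comp_convMul_distrib (R := R) (f : A →ₐ[R] B)
        (toConv LinearMap.id) (toConv (HopfAlgebra.antipode R (A := A)))
      rw [LinearMap.id_mul_antipode] at h1
      apply WithConv.ofConv_injective
      refine Eq.trans h1.symm ?_
      ext a
      simp only [LinearMap.comp_apply, LinearMap.convOne_apply]
      exact AlgHomClass.commutes f _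
  exact LinearMap.congr_fun (toConv_injective h) a

end antipode

variable {R : Type u} [CommRing R]
variable {A' A A'' : Type u} [CommRing A'] [HopfAlgebra R A'] [CommRing A] [HopfAlgebra R A]
  [CommRing A''] [HopfAlgebra R A'']
variable (f : A'' →ₐc[R] A) (g : A →ₐc[R] A')

/-- the coaction -/
def rho : A →ₐ[R] A' ⊗[R] A :=
  (Algebra.TensorProduct.map (g : A →ₐ[R] A') (AlgHom.id R A)).comp (Bialgebra.comulAlgHom R A)

theorem rho_apply (a : A) : rho g a = TensorProduct.map (g : A →ₗ[R] A') LinearMap.id (comul (R := R) a) := rfl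

theorem rho_repr {a : A} {ι : Type*} (r : Coalgebra.Repr R a ι) :
    rho g a = ∑ i ∈ r.index, g (r.left i) ⊗ₜ[R] r.right i := by
  rw [rho_apply, ← r.eq, map_sum]
  rfl

/-- image of a representation under a coalgebra map -/
def mapRepr {B C : Type*} [CommRing B] [CommRing C] [Bialgebra R B] [Bialgebra R C]
    (φ : B →ₐc[R] C) {b : B} {ι : Type*} (r : Coalgebra.Repr R b ι) : Coalgebra.Repr R (φ b) ι where
  index := r.index
  left i := φ (r.left i)
  right i := φ (r.right i)
  eq := by
    have := CoalgHomClass.map_comp_comul_apply φ b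
    rw [← this, ← r.eq, map_sum]
    rfl

variable (rr : A →ₗ[R] A'')

/-- `h (y ⊗ z) = f (r (S y * z))` -/
def h : A ⊗[R] A →ₗ[R] A :=
  (f : A'' →ₗ[R] A) ∘ₗ rr ∘ₗ LinearMap.mul' R A ∘ₗ (HopfAlgebra.antipode R (A := A)).rTensor A

@[simp] theorem h_tmul (y z : A) :
    h f rr (y ⊗ₜ z) = f (rr (HopfAlgebra.antipode R y * z)) := rfl

/-- `t̃ (x ⊗ y) = Σ x₁ f (r (S x₂ * y))` -/
def tt : A ⊗[R] A →ₗ[R] A :=
  LinearMap.mul' R A ∘ₗ (h f rr).lTensor A ∘ₗ (TensorProduct.assoc R A A A).toLinearMap ∘ₗ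
    (comul (R := R) (A := A)).rTensor A

theorem tt_repr {x : A} {ι : Type*} (r : Coalgebra.Repr R x ι) (y : A) :
    tt f rr (x ⊗ₜ y) = ∑ i ∈ r.index, r.left i * f (rr (HopfAlgebra.antipode R (r.right i) * y)) := by
  simp only [tt, LinearMap.comp_apply, LinearMap.rTensor_tmul, ← r.eq, TensorProduct.sum_tmul,
    map_sum, LinearEquiv.coe_coe, TensorProduct.assoc_tmul, LinearMap.lTensor_tmul, h_tmul,
    LinearMap.mul'_apply]

variable (hrl : ∀ (c : A'') (a : A), rr (f c * a) = c * rr a) (hr1 : rr 1 = 1)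

include hrl in
/-- `t̃ ((z · f c) ⊗ y) = ε(c) t̃ (z ⊗ y)` -/
theorem tt_mul (z y : A) (c : A'') :
    tt f rr ((z * f c) ⊗ₜ y) = counit (R := R) c • tt f rr (z ⊗ₜ y) := by
  rw [tt_repr f rr ((ℛ R z).mul (mapRepr f (ℛ R c))), tt_repr f rr (ℛ R z)]
  have h1 : ∀ i j, ((ℛ R z).mul (mapRepr f (ℛ R c))).left (i, j) =
      (ℛ R z).left i * f ((ℛ R c).left j) := fun i j => rfl
  have h2 : ∀ i j, ((ℛ R z).mul (mapRepr f (ℛ R c))).right (i, j) =
      (ℛ R z).right i * f ((ℛ R c).right j) := fun i j => rfl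
  have h3 : ((ℛ R z).mul (mapRepr f (ℛ R c))).index = (ℛ R z).index ×ˢ (ℛ R c).index := rfl
  rw [h3, Finset.sum_product, Finset.smul_sum]
  refine Finset.sum_congr rfl fun i _ => ?_
  have h4 : ∀ j, ((ℛ R z).mul (mapRepr f (ℛ R c))).left (i, j) *
      f (rr (HopfAlgebra.antipode R (((ℛ R z).mul (mapRepr f (ℛ R c))).right (i, j)) * y)) =
      f ((ℛ R c).left j * HopfAlgebra.antipode R ((ℛ R c).right j)) *
        ((ℛ R z).left i * f (rr (HopfAlgebra.antipode R ((ℛ R z).right i) * y))) := by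
    intro j
    rw [h1, h2, HopfAlgebra.antipode_mul_distrib, ← map_antipode]
    have : HopfAlgebra.antipode R ((ℛ R z).right i) * f (HopfAlgebra.antipode R ((ℛ R c).right j)) * y =
      f (HopfAlgebra.antipode R ((ℛ R c).right j)) * (HopfAlgebra.antipode R ((ℛ R z).right i) * y) := by
      ring
    rw [this, hrl, map_mul f, map_mul f]
    ring
  rw [Finset.sum_congr rfl fun j _ => h4 j, ← Finset.sum_mul, ← map_sum,
    HopfAlgebra.sum_mul_antipode_eq_algebraMap_counit]
  rw [AlgHomClass.commutes f, ← Algebra.smul_def]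

include hr1 hrl in
/-- `t̃ (ρ' b) = b` -/
theorem tt_comul (b : A) : tt f rr (comul (R := R) b) = b := by
  have key : tt f rr (comul (R := R) b) = LinearMap.mul' R A ((h f rr).lTensor A
      ((comul (R := R) (A := A)).lTensor A (comul (R := R) b))) := by
    rw [← coassoc_apply]
    rfl
  rw [key]
  have h1 : ∀ w : A ⊗[R] A, (h f rr).lTensor A ((comul (R := R) (A := A)).lTensor A w) =
      ((Algebra.linearMap R A) ∘ₗ counit (R := R) (A := A)).lTensor A w := by
    intro w
    rw [← LinearMap.comp_apply, ← LinearMap.lTensor_comp]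
    congr 2
    ext x
    change f (rr (LinearMap.mul' R A ((HopfAlgebra.antipode R (A := A)).rTensor A (comul x)))) = _
    rw [HopfAlgebra.mul_antipode_rTensor_comul_apply]
    have h2 : algebraMap R A (counit (R := R) x) = f (algebraMap R A'' (counit (R := R) x)) * 1 := by
      rw [mul_one, AlgHomClass.commutes f]
    conv_lhs => rw [h2, hrl, hr1, mul_one, AlgHomClass.commutes f]
    rfl
  rw [h1, LinearMap.lTensor_comp, LinearMap.comp_apply, lTensor_counit_comul,
    LinearMap.lTensor_tmul, LinearMap.mul'_apply, Algebra.linearMap_apply, map_one, mul_one]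

variable (hgf : ∀ c : A'', g (f c) = algebraMap R A' (counit (R := R) c))

include hgf in
theorem rho_f (c : A'') : rho g (f c) = 1 ⊗ₜ f c := by
  rw [rho_repr g (mapRepr f (ℛ R c))]
  change ∑ i ∈ (ℛ R c).index, g (f ((ℛ R c).left i)) ⊗ₜ[R] f ((ℛ R c).right i) = _
  simp_rw [hgf, Algebra.algebraMap_eq_smul_one, TensorProduct.smul_tmul, ← map_smul,
    ← TensorProduct.tmul_sum, ← map_sum, sum_counit_smul]

include hgf in
/-- `ρ (t̃ (x ⊗ y)) = Σ g(x₁) ⊗ t̃ (x₂ ⊗ y)` -/
theorem rho_tt (x y : A) {ι : Type*} (r : Coalgebra.Repr R x ι) :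
    rho g (tt f rr (x ⊗ₜ y)) = ∑ i ∈ r.index, g (r.left i) ⊗ₜ[R] tt f rr (r.right i ⊗ₜ y) := by
  classical
  rw [tt_repr f rr r, map_sum]
  have h0 := sum_tmul_tmul_eq r (fun i => ℛ R (r.left i)) (fun i => ℛ R (r.right i))
  let G : A ⊗[R] (A ⊗[R] A) →ₗ[R] A' ⊗[R] A :=
    TensorProduct.map (g : A →ₗ[R] A')
      (LinearMap.mul' R A ∘ₗ LinearMap.lTensor A ((h f rr) ∘ₗ (TensorProduct.mk R A A).flip y))
  have h1 := congrArg G h0
  simp only [map_sum] at h1
  have hG : ∀ a b c, G (a ⊗ₜ (b ⊗ₜ c)) =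
      g a ⊗ₜ (b * f (rr (HopfAlgebra.antipode R c * y))) := fun a b c => rfl
  simp only [hG] at h1
  refine Eq.trans ?_ (h1.trans ?_)
  · refine Finset.sum_congr rfl fun i _ => ?_
    rw [map_mul, rho_f f g hgf, rho_repr g (ℛ R (r.left i)), Finset.sum_mul]
    refine Finset.sum_congr rfl fun j _ => ?_
    rw [Algebra.TensorProduct.tmul_mul_tmul, mul_one]
  · refine Finset.sum_congr rfl fun i _ => ?_
    rw [tt_repr f rr (ℛ R (r.right i)), TensorProduct.tmul_sum]


section descend

/-- `t : A' ⊗ A → A` -/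
theorem exists_t (hrl : ∀ (c : A'') (a : A), rr (f c * a) = c * rr a)
    (hg : Function.Surjective g)
    (hker : RingHom.ker (g : A →ₐ[R] A') =
      Ideal.map (f : A'' →ₐ[R] A) (RingHom.ker (Bialgebra.counitAlgHom R A''))) :
    ∃ t : A' ⊗[R] A →ₗ[R] A, ∀ x y, t (g x ⊗ₜ y) = tt f rr (x ⊗ₜ y) := by
  have hvan : ∀ x, g x = 0 → ∀ z y, tt f rr ((z * x) ⊗ₜ y) = 0 := by
    intro x hx
    have hx' : x ∈ RingHom.ker (g : A →ₐ[R] A') := hx
    rw [hker] at hx'
    refine Submodule.span_induction ?_ ?_ ?_ ?_ hx'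
    · rintro _ ⟨c, hc, rfl⟩ z y
      have hc' : counit (R := R) c = 0 := hc
      have := tt_mul f rr hrl z y c
      rw [hc', zero_smul] at this
      exact this
    · intro z y
      rw [mul_zero, TensorProduct.zero_tmul, map_zero]
    · intro x x' _ _ h h' z y
      rw [mul_add, TensorProduct.add_tmul, map_add, h, h', add_zero]
    · intro a x _ h z y
      rw [smul_eq_mul, ← mul_assoc]
      exact h (z * a) y
  let gl : A →ₗ[R] A' := (g : A →ₗ[R] A')
  have hgl : Function.Surjective gl := hg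
  let e : (A ⧸ LinearMap.ker gl) ≃ₗ[R] A' := gl.quotKerEquivOfSurjective hgl
  let T : A →ₗ[R] (A →ₗ[R] A) := TensorProduct.curry (tt f rr)
  have hT : LinearMap.ker gl ≤ LinearMap.ker T := by
    intro x hx
    rw [LinearMap.mem_ker]
    ext y
    have := hvan x hx 1 y
    rwa [one_mul] at this
  refine ⟨TensorProduct.lift (((LinearMap.ker gl).liftQ T hT) ∘ₗ e.symm.toLinearMap), ?_⟩
  intro x y
  rw [TensorProduct.lift.tmul, LinearMap.comp_apply, LinearEquiv.coe_coe]
  have : e.symm (g x) = (LinearMap.ker gl).mkQ x := by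
    rw [LinearEquiv.symm_apply_eq]; rfl
  rw [this, Submodule.mkQ_apply, Submodule.liftQ_apply]
  rfl

end descend

theorem gf_eq (hker : RingHom.ker (g : A →ₐ[R] A') =
      Ideal.map (f : A'' →ₐ[R] A) (RingHom.ker (Bialgebra.counitAlgHom R A''))) (c : A'') :
    g (f c) = algebraMap R A' (counit (R := R) c) := by
  have h1 : f (c - algebraMap R A'' (counit (R := R) c)) ∈ RingHom.ker (g : A →ₐ[R] A') := by
    rw [hker]
    refine Ideal.mem_map_of_mem (f : A'' →ₐ[R] A) ?_
    rw [RingHom.mem_ker, map_sub, AlgHom.commutes]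
    exact sub_self _
  have h2 : g (f (c - algebraMap R A'' (counit (R := R) c))) = 0 := h1
  rw [map_sub f, map_sub g, sub_eq_zero, AlgHomClass.commutes f, AlgHomClass.commutes g] at h2
  exact h2

section dual

open CartDual

variable [Coalgebra.IsCocomm R A'] [Module.Finite R A'] [Module.Projective R A']
  [Coalgebra.IsCocomm R A] [Module.Finite R A] [Module.Projective R A]
  [Coalgebra.IsCocomm R A''] [Module.Finite R A''] [Module.Projective R A'']

/-- `D(A') ⊗ D(A) ≃ (A' ⊗ A)^*` -/
def ee (R : Type u) [CommRing R] (A' A : Type u) [AddCommGroup A'] [Module R A'] [AddCommGroup A]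
    [Module R A] [Module.Finite R A'] [Module.Projective R A'] [Module.Finite R A]
    [Module.Projective R A] :
    D R A' ⊗[R] D R A ≃ₗ[R] Module.Dual R (A' ⊗[R] A) :=
  TensorProduct.congr (toDual R A') (toDual R A) ≪≫ₗ dualTensorEquiv R A' A

omit [IsCocomm R A'] [IsCocomm R A] in
@[simp] theorem ee_tmul (x : D R A') (y : D R A) (a : A') (b : A) :
    ee R A' A (x ⊗ₜ y) (a ⊗ₜ b) = x a * y b := by
  simp [ee, coe_apply]

omit [IsCocomm R A'] [IsCocomm R A] in
theorem mul_repr {a : A} {ι : Type*} (r : Coalgebra.Repr R a ι) (x y : D R A) :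
    (x * y) a = ∑ i ∈ r.index, x (r.left i) * y (r.right i) := r.convMul_apply x y

omit [IsCocomm R A'] [IsCocomm R A] in
/-- `(φ' ∘ g) * ψ` is `(φ' ⊗ ψ) ∘ ρ`. -/
theorem gD_mul_apply (x : D R A') (y : D R A) (a : A) :
    (transpose R g x * y) a = ee R A' A (x ⊗ₜ y) (rho g a) := by
  rw [mul_repr (ℛ R a), rho_repr g (ℛ R a), map_sum]
  simp

/-- `D(A') ⊗ D(A) → D(A)` -/
def pp : D R A' ⊗[R] D R A →ₗ[R] D R A :=
  LinearMap.mul' R (D R A) ∘ₗ LinearMap.rTensor (D R A) (transpose R g : D R A' →ₗ[R] D R A)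

omit [IsCocomm R A'] [IsCocomm R A] in
@[simp] theorem pp_tmul (x : D R A') (y : D R A) : pp g (x ⊗ₜ y) = transpose R g x * y := rfl

omit [IsCocomm R A'] [IsCocomm R A] in
theorem pp_apply (Ω : D R A' ⊗[R] D R A) (a : A) : (pp g Ω) a = ee R A' A Ω (rho g a) := by
  induction Ω using TensorProduct.induction_on with
  | zero => simp [coe_apply]
  | tmul x y => rw [pp_tmul, gD_mul_apply]
  | add x y hx hy =>
    rw [map_add, map_add, LinearMap.add_apply, ← hx, ← hy]
    rfl


variable (t : A' ⊗[R] A →ₗ[R] A)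

/-- `D(A) → D(A') ⊗ D(A)` -/
def ii : D R A →ₗ[R] D R A' ⊗[R] D R A :=
  (ee R A' A).symm.toLinearMap ∘ₗ t.dualMap ∘ₗ (toDual R A).toLinearMap

omit [IsCocomm R A'] [IsCocomm R A] in
@[simp] theorem ee_ii (ψ : D R A) (z : A' ⊗[R] A) : ee R A' A (ii t ψ) z = ψ (t z) := by
  simp only [ii, LinearMap.comp_apply, LinearEquiv.coe_coe, LinearEquiv.apply_symm_apply]
  rfl

variable (ht : ∀ x y, t (g x ⊗ₜ y) = tt f rr (x ⊗ₜ y))
  (hrl : ∀ (c : A'') (a : A), rr (f c * a) = c * rr a) (hr1 : rr 1 = 1)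

omit [IsCocomm R A'] [IsCocomm R A] [IsCocomm R A''] [Module.Finite R A''] [Module.Projective R A''] in
include ht hrl hr1 in
theorem pp_ii (ψ : D R A) : pp g (ii t ψ) = ψ := by
  apply WithConv.ext
  apply LinearMap.ext
  intro a
  change pp g (ii t ψ) a = ψ a
  rw [pp_apply, ee_ii, rho_repr g (ℛ R a), map_sum]
  simp_rw [ht]
  rw [← map_sum, (ℛ R a).eq, tt_comul f rr hrl hr1]

omit [IsCocomm R A'] [IsCocomm R A] in
theorem ee_smul {κ : Type*} {a' : A'} (r : Coalgebra.Repr R a' κ) (x : D R A') (Ω : D R A' ⊗[R] D R A) (b : A) :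
    ee R A' A ((LinearMap.mulLeft R x).rTensor (D R A) Ω) (a' ⊗ₜ b) =
      ∑ i ∈ r.index, x (r.left i) * ee R A' A Ω (r.right i ⊗ₜ b) := by
  induction Ω using TensorProduct.induction_on with
  | zero => simp
  | tmul y z =>
    rw [LinearMap.rTensor_tmul, ee_tmul, LinearMap.mulLeft_apply, mul_repr r, Finset.sum_mul]
    simp_rw [ee_tmul, mul_assoc]
  | add y z hy hz =>
    rw [map_add, map_add, LinearMap.add_apply, hy, hz, ← Finset.sum_add_distrib]
    simp_rw [map_add, LinearMap.add_apply, mul_add]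

omit [IsCocomm R A'] [IsCocomm R A] [IsCocomm R A''] [Module.Finite R A''] [Module.Projective R A''] in
include ht in
theorem ii_mul (hg : Function.Surjective g)
    (hgf : ∀ c : A'', g (f c) = algebraMap R A' (counit (R := R) c)) (x : D R A') (ψ : D R A) :
    ii t (transpose R g x * ψ) = (LinearMap.mulLeft R x).rTensor (D R A) (ii t ψ) := by
  apply (ee R A' A).injective
  apply TensorProduct.ext'
  intro a' b
  obtain ⟨a, rfl⟩ := hg a'
  rw [ee_ii, ht, gD_mul_apply, rho_tt f g rr hgf a b (ℛ R a), map_sum,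
    ee_smul (mapRepr g (ℛ R a))]
  refine Finset.sum_congr rfl fun i _ => ?_
  rw [ee_tmul]
  congr 1
  change _ = ee R A' A (ii t ψ) (g ((ℛ R a).right i) ⊗ₜ b)
  rw [ee_ii, ht]

theorem faithfullyFlat_transpose (hg : Function.Surjective g)
    (hgf : ∀ c : A'', g (f c) = algebraMap R A' (counit (R := R) c))
    (ht : ∀ x y, t (g x ⊗ₜ y) = tt f rr (x ⊗ₜ y))
    (hrl : ∀ (c : A'') (a : A), rr (f c * a) = c * rr a) (hr1 : rr 1 = 1) :
    (transpose R g : D R A' →ₐ[R] D R A).toRingHom.FaithfullyFlat := by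
  letI alg : Algebra (D R A') (D R A) := (transpose R g : D R A' →ₐ[R] D R A).toRingHom.toAlgebra
  have hsmul : ∀ (x : D R A') (y : D R A), x • y = transpose R g x * y := fun x y => rfl
  haveI : IsScalarTower R (D R A') (D R A) := IsScalarTower.of_algebraMap_eq
    (fun r => ((transpose R g : D R A' →ₐ[R] D R A).commutes r).symm)
  let i : D R A →ₗ[D R A'] D R A' ⊗[R] D R A :=
    { toFun := ii t
      map_add' := fun x y => map_add _ x y
      map_smul' := fun x y => by
        rw [hsmul, ii_mul f g rr t ht hg hgf]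
        rfl }
  let q : D R A' ⊗[R] D R A →ₗ[D R A'] D R A :=
    { toFun := pp g
      map_add' := fun x y => map_add _ x y
      map_smul' := fun x Ω => by
        rw [hsmul]
        change pp g ((x : D R A') • Ω) = transpose R g x * pp g Ω
        induction Ω using TensorProduct.induction_on with
        | zero => simp
        | tmul y z =>
          rw [TensorProduct.smul_tmul', pp_tmul, pp_tmul, smul_eq_mul, map_mul, mul_assoc]
        | add y z hy hz => rw [smul_add, map_add, map_add, hy, hz, mul_add] }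
  have hproj : Module.Projective (D R A') (D R A) :=
    Module.Projective.of_split i q (by
      ext ψ : 1
      exact pp_ii (f := f) (g := g) (rr := rr) (t := t) (ht := ht) (hrl := hrl) (hr1 := hr1) ψ)
  have hinj : Function.Injective (algebraMap (D R A') (D R A)) := by
    intro x y hxy
    apply WithConv.ext
    apply LinearMap.ext
    intro a'
    obtain ⟨a, rfl⟩ := hg a'
    exact congrArg (fun z : D R A => z a) hxy
  have hfin : Module.Finite (D R A') (D R A) := Module.Finite.of_restrictScalars_finite R _ _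
  have hint : (algebraMap (D R A') (D R A)).IsIntegral := algebraMap_isIntegral_iff.2 inferInstance
  rw [RingHom.FaithfullyFlat]
  exact Module.FaithfullyFlat.of_comap_surjective
    (hint.comap_surjective hinj)

theorem surjective_transpose (hr : ∀ c, rr (f c) = c) : Function.Surjective (transpose R f) := by
  intro χ
  refine ⟨WithConv.toConv (χ.ofConv ∘ₗ rr), ?_⟩
  apply WithConv.ext
  apply LinearMap.ext
  intro c
  change χ.ofConv (rr (f c)) = χ.ofConv c
  rw [hr]

theorem ker_transpose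
    (hgf : ∀ c : A'', g (f c) = algebraMap R A' (counit (R := R) c))
    (ht : ∀ x y, t (g x ⊗ₜ y) = tt f rr (x ⊗ₜ y))
    (hrl : ∀ (c : A'') (a : A), rr (f c * a) = c * rr a) (hr1 : rr 1 = 1) :
    RingHom.ker (transpose R f : D R A →ₐ[R] D R A'') =
      Ideal.map (transpose R g : D R A' →ₐ[R] D R A)
        (RingHom.ker (Bialgebra.counitAlgHom R (D R A'))) := by
  apply le_antisymm
  · intro φ hφ
    have hφ' : ∀ c, φ (f c) = 0 := by
      intro c
      have h1 : transpose R f φ = 0 := hφ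
      exact congrArg (fun z : D R A'' => z c) h1
    have key : ∀ Ω : D R A' ⊗[R] D R A, ∃ y : D R A, (∀ b, y b = ee R A' A Ω (1 ⊗ₜ b)) ∧
        pp g Ω - y ∈ Ideal.map (transpose R g : D R A' →ₐ[R] D R A)
          (RingHom.ker (Bialgebra.counitAlgHom R (D R A'))) := by
      intro Ω
      induction Ω using TensorProduct.induction_on with
      | zero => exact ⟨0, fun b => by simp [coe_apply], by simp⟩
      | tmul x y =>
        refine ⟨x 1 • y, fun b => by rw [ee_tmul]; rfl, ?_⟩
        have h1 : pp g (x ⊗ₜ[R] y) - x 1 • y =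
            y * (transpose R g : D R A' →ₐ[R] D R A) (x - algebraMap R (D R A') (x 1)) := by
          rw [pp_tmul, map_sub, AlgHom.commutes, mul_sub, mul_comm y, mul_comm y, ← Algebra.smul_def]
          rfl
        rw [h1]
        refine Ideal.mul_mem_left _ _ (Ideal.mem_map_of_mem _ ?_)
        rw [RingHom.mem_ker, map_sub, AlgHom.commutes]
        exact sub_self _
      | add Ω₁ Ω₂ h₁ h₂ =>
        obtain ⟨y₁, h₁, h₁'⟩ := h₁
        obtain ⟨y₂, h₂, h₂'⟩ := h₂
        refine ⟨y₁ + y₂, fun b => ?_, ?_⟩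
        · rw [map_add, LinearMap.add_apply, ← h₁, ← h₂]
          rfl
        · rw [map_add, add_sub_add_comm]
          exact Ideal.add_mem _ h₁' h₂'
    obtain ⟨y, hy, hy'⟩ := key (ii t φ)
    have hy0 : y = 0 := by
      apply WithConv.ext
      apply LinearMap.ext
      intro b
      change y b = 0
      rw [hy, ee_ii]
      have h1 : (1 : A') ⊗ₜ[R] b = g 1 ⊗ₜ b := by rw [map_one]
      have h2 : tt f rr ((1 : A) ⊗ₜ b) = f (rr b) := by
        simp only [tt, LinearMap.comp_apply, LinearMap.rTensor_tmul, Bialgebra.comul_one,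
          Algebra.TensorProduct.one_def, LinearEquiv.coe_coe, TensorProduct.assoc_tmul,
          LinearMap.lTensor_tmul, h_tmul, LinearMap.mul'_apply, HopfAlgebra.antipode_one, one_mul]
      rw [h1, ht, h2, hφ']
    rw [hy0, sub_zero, pp_ii (f := f) (g := g) (rr := rr) (t := t) (ht := ht) (hrl := hrl) (hr1 := hr1)] at hy'
    exact hy'
  · rw [Ideal.map_le_iff_le_comap]
    intro x hx
    have hx' : x 1 = 0 := hx
    rw [Ideal.mem_comap, RingHom.mem_ker]
    apply WithConv.ext
    apply LinearMap.ext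
    intro c
    change x.ofConv (g (f c)) = 0
    rw [hgf, Algebra.algebraMap_eq_smul_one, map_smul]
    have : x.ofConv 1 = 0 := hx'
    rw [this, smul_zero]

end dual

end K789.CartExact
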